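import Mathlib

namespace CfsgLib.OrderType

open scoped commutatorElement

/-- Number of solutions of `g ^ n = 1`. -/
noncomputable def cnt (G : Type*) [Monoid G] (n : ℕ) : ℕ := Nat.card {g : G // g ^ n = 1}

theorem cnt_prod (G H : Type*) [Monoid G] [Monoid H] (n : ℕ) :
    cnt (G × H) n = cnt G n * cnt H n := by
  rw [cnt, cnt, cnt, ← Nat.card_prod]
  exact Nat.card_congr
    { toFun := fun g => (⟨g.1.1, congrArg Prod.fst g.2⟩, ⟨g.1.2, congrArg Prod.snd g.2⟩)
      invFun := fun g => ⟨(g.1.1, g.2.1), Prod.ext g.1.2 g.2.2⟩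
      left_inv := fun _ => rfl
      right_inv := fun _ => rfl }

theorem cnt_pow (G : Type*) [Monoid G] (k n : ℕ) :
    cnt (Fin k → G) n = cnt G n ^ k := by
  rw [cnt, cnt, show Nat.card {g : G // g ^ n = 1} ^ k
      = Nat.card (Fin k → {g : G // g ^ n = 1}) from by rw [Nat.card_fun, Nat.card_fin]]
  exact Nat.card_congr
    { toFun := fun g i => ⟨g.1 i, congrFun g.2 i⟩
      invFun := fun g => ⟨fun i => (g i).1, funext fun i => (g i).2⟩
      left_inv := fun _ => rfl
      right_inv := fun _ => rfl }

theorem isSolvable_pi {ι : Type*} [Finite ι] (G : Type*) [Group G] [h : Group.IsSolvable G] :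
    Group.IsSolvable (ι → G) := by
  obtain ⟨n, hn⟩ := id h
  refine ⟨⟨n, ?_⟩⟩
  rw [Subgroup.eq_bot_iff_forall]
  intro x hx
  funext i
  have h1 := map_derivedSeries_le_derivedSeries (Pi.evalMonoidHom (fun _ : ι => G) i) n
    (Subgroup.mem_map_of_mem _ hx)
  rw [hn, Subgroup.mem_bot] at h1
  exact h1

/-- Searching for the order of `g`, up to a bound. -/
def ordAux {G : Type*} [Monoid G] [DecidableEq G] (g : G) : ℕ → G → ℕ → ℕ
  | 0, _, _ => 0
  | fuel + 1, x, k => if x = 1 then k else ordAux g fuel (x * g) (k + 1)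

theorem ordAux_spec {G : Type*} [Monoid G] [DecidableEq G] (g : G) :
    ∀ (fuel : ℕ) (x : G) (k : ℕ), x = g ^ k → (∀ j, 1 ≤ j → j < k → g ^ j ≠ 1) → 1 ≤ k →
      ordAux g fuel x k ≠ 0 → orderOf g = ordAux g fuel x k := by
  intro fuel
  induction fuel with
  | zero => intro x k _ _ _ h; exact absurd rfl h
  | succ fuel ih =>
    intro x k hx hmin hk h
    by_cases hx1 : x = 1
    · simp only [ordAux, hx1, if_true]
      rw [orderOf_eq_iff (by omega)]
      exact ⟨hx ▸ hx1, fun j hj hj0 => hmin j hj0 hj⟩
    · simp only [ordAux, hx1, if_false] at h ⊢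
      refine ih (x * g) (k + 1) (by rw [hx, pow_succ]) ?_ (by omega) h
      intro j hj hjk
      rcases Nat.lt_or_ge j k with hlt | hge
      · exact hmin j hj hlt
      · have hjk' : j = k := by omega
        rw [hjk', ← hx]
        exact hx1

/-- The order of `g` if it is at most 84, and `0` otherwise. -/
def ord84 {G : Type*} [Monoid G] [DecidableEq G] (g : G) : ℕ := ordAux g 84 g 1

theorem orderOf_eq_ord84 {G : Type*} [Monoid G] [DecidableEq G] (g : G) (h : ord84 g ≠ 0) :
    orderOf g = ord84 g :=
  ordAux_spec g 84 g 1 (pow_one g).symm (fun j h1 h2 => absurd h1 (by omega)) le_rfl h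

/-- Expansion of a histogram. -/
def expand (h : List (ℕ × ℕ)) : List ℕ := h.flatMap fun p => List.replicate p.2 p.1

/-- Value at `n` of the counting function given by a histogram of orders. -/
def val (h : List (ℕ × ℕ)) (n : ℕ) : ℕ := (expand h).countP fun o => o ∣ n

theorem cnt_eq_val {G : Type*} [Monoid G] [Fintype G] [DecidableEq G] (h : List (ℕ × ℕ))
    (h0 : (0 : ℕ) ∉ expand h)
    (hm : (Finset.univ : Finset G).val.map ord84 = (expand h : Multiset ℕ)) (n : ℕ) :
    cnt G n = val h n := by
  have hne : ∀ g : G, ord84 g ≠ 0 := by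
    intro g hg
    have : ord84 g ∈ (Finset.univ : Finset G).val.map ord84 :=
      Multiset.mem_map_of_mem _ (Finset.mem_univ g)
    rw [hm, hg] at this
    exact h0 (Multiset.mem_coe.mp this)
  have h1 : Multiset.countP (fun o => o ∣ n) ((Finset.univ : Finset G).val.map ord84)
      = val h n := by
    rw [hm]; simp [val]
  rw [← h1, Multiset.countP_map, cnt, Nat.card_eq_fintype_card, Fintype.card_subtype]
  rw [Finset.card_def, Finset.filter_val]
  congr 1
  apply Multiset.filter_congr
  intro g _
  rw [← orderOf_eq_ord84 g (hne g), orderOf_dvd_iff_pow_eq_one]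

theorem dvd_gcd84 {o n : ℕ} (ho : o ∣ 84) : o ∣ n ↔ o ∣ Nat.gcd n 84 :=
  ⟨fun h => Nat.dvd_gcd h ho, fun h => h.trans (Nat.gcd_dvd_left _ _)⟩

theorem val_gcd (h : List (ℕ × ℕ)) (hd : ∀ o ∈ expand h, o ∣ 84) (n : ℕ) :
    val h n = val h (Nat.gcd n 84) := by
  apply List.countP_congr
  intro o ho
  simp only [decide_eq_true_eq]
  exact dvd_gcd84 (hd o ho)

/-- A group given as a product of powers of groups with known histograms. -/
def valProd (L : List (List (ℕ × ℕ) × ℕ)) (n : ℕ) : ℕ := (L.map fun p => val p.1 n ^ p.2).prod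

theorem valProd_gcd (L : List (List (ℕ × ℕ) × ℕ))
    (hd : ∀ p ∈ L, ∀ o ∈ expand p.1, o ∣ 84) (n : ℕ) :
    valProd L n = valProd L (Nat.gcd n 84) := by
  unfold valProd
  refine congrArg List.prod (List.map_congr_left fun p hp => ?_)
  rw [val_gcd p.1 (hd p hp) n]

theorem cnt_eq_sum_divisors (K : Type*) [Group K] [Fintype K] {n : ℕ} (hn : 0 < n) :
    cnt K n = ∑ m ∈ n.divisors, Nat.card {g : K // orderOf g = m} := by
  classical
  rw [cnt, Nat.card_eq_fintype_card, Fintype.card_subtype]
  rw [Finset.card_eq_sum_card_fiberwise (f := fun g => orderOf g) (t := n.divisors)]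
  · refine Finset.sum_congr rfl fun m hm => ?_
    rw [Nat.card_eq_fintype_card, Fintype.card_subtype]
    congr 1
    ext g
    simp only [Finset.mem_filter, Finset.mem_univ, true_and]
    constructor
    · exact fun h => h.2
    · exact fun h => ⟨orderOf_dvd_iff_pow_eq_one.mp
        (h ▸ Nat.dvd_of_mem_divisors hm), h⟩
  · intro g hg
    simp only [Finset.mem_coe, Finset.mem_filter, Finset.mem_univ, true_and] at hg
    simp only [Finset.mem_coe, Nat.mem_divisors]
    exact ⟨orderOf_dvd_iff_pow_eq_one.mpr hg, by omega⟩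

theorem cnt_eq_sum_subset (K : Type*) [Group K] [Fintype K] (n : ℕ) (T : Finset ℕ)
    (hT : ∀ g : K, orderOf g ∈ T) :
    cnt K n = ∑ m ∈ T, if m ∣ n then Nat.card {g : K // orderOf g = m} else 0 := by
  classical
  rw [cnt, Nat.card_eq_fintype_card, Fintype.card_subtype, ← Finset.sum_filter,
    Finset.card_eq_sum_card_fiberwise (f := fun g => orderOf g) (t := T.filter (· ∣ n))]
  · refine Finset.sum_congr rfl fun m hm => ?_
    rw [Nat.card_eq_fintype_card, Fintype.card_subtype]
    congr 1
    ext g
    simp only [Finset.mem_filter, Finset.mem_univ, true_and]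
    constructor
    · exact fun h => h.2
    · intro h
      exact ⟨orderOf_dvd_iff_pow_eq_one.mp (h ▸ (Finset.mem_filter.mp hm).2), h⟩
  · intro g hg
    simp only [Finset.mem_coe, Finset.mem_filter, Finset.mem_univ, true_and] at hg
    simp only [Finset.mem_coe, Finset.mem_filter]
    exact ⟨hT g, orderOf_dvd_iff_pow_eq_one.mpr hg⟩

/-- Equality of solution counts gives equality of the numbers of elements of each order. -/
theorem card_orderOf_eq {G H : Type*} [Group G] [Finite G] [Group H] [Finite H]
    (h : ∀ n, cnt G n = cnt H n) (n : ℕ) :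
    Nat.card {g : G // orderOf g = n} = Nat.card {g : H // orderOf g = n} := by
  induction n using Nat.strong_induction_on with
  | _ n ih =>
    classical
    have := Fintype.ofFinite G
    have := Fintype.ofFinite H
    rcases Nat.eq_zero_or_pos n with rfl | hn
    · rw [Nat.card_eq_fintype_card, Nat.card_eq_fintype_card, Fintype.card_subtype,
        Fintype.card_subtype, Finset.card_eq_zero.mpr, Finset.card_eq_zero.mpr] <;>
        simp [Finset.filter_eq_empty_iff, orderOf_eq_zero_iff, isOfFinOrder_of_finite]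
    have hG := cnt_eq_sum_divisors G hn
    have hH := cnt_eq_sum_divisors H hn
    rw [← Nat.cons_self_properDivisors (by omega : n ≠ 0), Finset.sum_cons] at hG hH
    have hrest : ∑ m ∈ n.properDivisors, Nat.card {g : G // orderOf g = m}
        = ∑ m ∈ n.properDivisors, Nat.card {g : H // orderOf g = m} :=
      Finset.sum_congr rfl fun m hm => ih m (Nat.mem_properDivisors.mp hm).2
    have := h n
    omega

theorem cnt_eq_of_card_orderOf_eq {G H : Type*} [Group G] [Finite G] [Group H] [Finite H]
    (h : ∀ n, Nat.card {g : G // orderOf g = n} = Nat.card {g : H // orderOf g = n}) (n : ℕ) :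
    cnt G n = cnt H n := by
  classical
  have := Fintype.ofFinite G
  have := Fintype.ofFinite H
  set T := (Finset.univ : Finset G).image orderOf ∪ (Finset.univ : Finset H).image orderOf
  rw [cnt_eq_sum_subset G n T (fun g => Finset.mem_union_left _ (Finset.mem_image_of_mem _ (Finset.mem_univ g))),
    cnt_eq_sum_subset H n T (fun g => Finset.mem_union_right _ (Finset.mem_image_of_mem _ (Finset.mem_univ g)))]
  simp only [h]

/-- A nonempty set of elements, each of which is a commutator of two members of the set, shows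
that a group is not solvable. -/
theorem not_isSolvable_of_commutators {G : Type*} [Group G] (S : Set G) {a : G} (ha : a ∈ S)
    (ha1 : a ≠ 1) (h : ∀ x ∈ S, ∃ y ∈ S, ∃ z ∈ S, x = ⁅y, z⁆) : ¬ Group.IsSolvable G := by
  rintro ⟨n, hn⟩
  have : ∀ k, ∀ x ∈ S, x ∈ derivedSeries G k := by
    intro k
    induction k with
    | zero => intro x _; rw [derivedSeries_zero]; exact Subgroup.mem_top x
    | succ k ih =>
      intro x hx
      obtain ⟨y, hy, z, hz, rfl⟩ := h x hx
      rw [derivedSeries_succ]
      exact Subgroup.commutator_mem_commutator (ih y hy) (ih z hz)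
  exact ha1 (by simpa [hn] using this n a ha)

/-- An endomorphism `σ` of `A` whose `m`-th iterate is the identity. -/
structure CyclicAct (A : Type) [Group A] (m : ℕ) where
  σ : A → A
  map_mul : ∀ x y, σ (x * y) = σ x * σ y
  period : ∀ x, σ^[m] x = x

/-- The semidirect product of `A` by a cyclic group of order `m`. -/
@[ext]
structure Semi {A : Type} [Group A] {m : ℕ} (D : CyclicAct A m) where
  a : A
  j : ZMod m

namespace Semi

variable {A : Type} [Group A] {m : ℕ} [NeZero m] (D : CyclicAct A m)

instance instDecEq [DecidableEq A] : DecidableEq (Semi D) := fun x y =>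
  decidable_of_iff (x.a = y.a ∧ x.j = y.j) Semi.ext_iff.symm

/-- The underlying product. -/
def equivProd : Semi D ≃ A × ZMod m where
  toFun x := (x.a, x.j)
  invFun p := ⟨p.1, p.2⟩
  left_inv _ := rfl
  right_inv _ := rfl

instance instFinite [Finite A] : Finite (Semi D) := Finite.of_equiv _ (equivProd D).symm

instance instFintype [Fintype A] [DecidableEq A] : Fintype (Semi D) :=
  Fintype.ofEquiv _ (equivProd D).symm

theorem iter_mul (k : ℕ) (x y : A) : D.σ^[k] (x * y) = D.σ^[k] x * D.σ^[k] y := by
  induction k generalizing x y with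
  | zero => rfl
  | succ k ih => rw [Function.iterate_succ_apply, Function.iterate_succ_apply,
      Function.iterate_succ_apply, D.map_mul, ih]

theorem iter_one (k : ℕ) : D.σ^[k] 1 = 1 := by
  have h := iter_mul D k 1 1
  rw [one_mul] at h
  simpa using h

theorem iter_mod (k : ℕ) (x : A) : D.σ^[k % m] x = D.σ^[k] x :=
  Function.IsPeriodicPt.iterate_mod_apply (D.period x) k

theorem iter_add (i j : ZMod m) (x : A) :
    D.σ^[(i + j).val] x = D.σ^[i.val] (D.σ^[j.val] x) := by
  rw [ZMod.val_add, iter_mod, Function.iterate_add_apply]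

instance instMul : Mul (Semi D) := ⟨fun x y => ⟨x.a * D.σ^[x.j.val] y.a, x.j + y.j⟩⟩

instance instOne : One (Semi D) := ⟨⟨1, 0⟩⟩

instance instInv : Inv (Semi D) := ⟨fun x => ⟨(D.σ^[(-x.j).val] x.a)⁻¹, -x.j⟩⟩

theorem mul_def (x y : Semi D) : x * y = ⟨x.a * D.σ^[x.j.val] y.a, x.j + y.j⟩ := rfl

theorem one_def : (1 : Semi D) = ⟨1, 0⟩ := rfl

instance instGroup : Group (Semi D) :=
  Group.ofLeftAxioms
    (fun x y z => by
      simp only [mul_def, Semi.mk.injEq]
      exact ⟨by rw [iter_mul, iter_add, mul_assoc], add_assoc _ _ _⟩)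
    (fun x => by simp [mul_def, one_def])
    (fun x => by
      show (⟨(D.σ^[(-x.j).val] x.a)⁻¹ * D.σ^[(-x.j).val] x.a, -x.j + x.j⟩ : Semi D) = ⟨1, 0⟩
      rw [inv_mul_cancel, neg_add_cancel])

/-- Projection onto the cyclic group. -/
def proj : Semi D →* Multiplicative (ZMod m) where
  toFun x := Multiplicative.ofAdd x.j
  map_one' := rfl
  map_mul' _ _ := rfl

/-- Inclusion of the normal factor. -/
def incl : A →* Semi D where
  toFun a := ⟨a, 0⟩
  map_one' := rfl
  map_mul' a b := by simp [mul_def, ZMod.val_zero]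

theorem isSolvable [Group.IsSolvable A] : Group.IsSolvable (Semi D) :=
  Group.isSolvable_of_ker_le_range (incl D) (proj D) fun x hx => by
    refine ⟨x.a, ?_⟩
    have : x.j = 0 := hx
    exact Semi.ext rfl this.symm

end Semi

end CfsgLib.OrderType
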