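import Cfsg.Agent.Lib.OrderType.Basic

set_option synthInstance.maxSize 4096

namespace CfsgLib.OrderType.Data

open CfsgLib.OrderType

abbrev A7 : Type :=
  Multiplicative (ZMod 2) ×
  Multiplicative (ZMod 2) ×
  Multiplicative (ZMod 2) ×
  Multiplicative (ZMod 2) ×
  Multiplicative (ZMod 7)

def act7 : CyclicAct A7 6 where
  σ x := (Multiplicative.ofAdd (x.2.2.2.1.toAdd : ZMod 2),
    Multiplicative.ofAdd (x.2.2.1.toAdd : ZMod 2),
    Multiplicative.ofAdd (x.2.1.toAdd + x.2.2.2.1.toAdd : ZMod 2),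
    Multiplicative.ofAdd (x.1.toAdd + x.2.2.1.toAdd : ZMod 2),
    Multiplicative.ofAdd (2 * x.2.2.2.2.toAdd : ZMod 7))
  map_mul := by decide +kernel
  period := by decide +kernel

abbrev G7 : Type := Semi act7

theorem solvable_G7 : Group.IsSolvable G7 :=
  Semi.isSolvable act7

theorem cnt_G7 (n : ℕ) : cnt G7 n = val [(1, 1), (2, 19), (3, 224), (4, 12), (6, 224), (7, 6), (14, 114), (28, 72)] n :=
  cnt_eq_val _ (by decide +kernel) (by decide +kernel) n

end CfsgLib.OrderType.Data
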