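import Cfsg.Agent.Lib.OrderType.Basic

set_option synthInstance.maxSize 4096

namespace CfsgLib.OrderType.Data

open CfsgLib.OrderType

abbrev A9 : Type :=
  Multiplicative (ZMod 2) ×
  Multiplicative (ZMod 2) ×
  Multiplicative (ZMod 2) ×
  Multiplicative (ZMod 2) ×
  Multiplicative (ZMod 7)

def act9 : CyclicAct A9 6 where
  σ x := (Multiplicative.ofAdd (x.2.2.2.1.toAdd : ZMod 2),
    Multiplicative.ofAdd (x.2.2.1.toAdd : ZMod 2),
    Multiplicative.ofAdd (x.2.1.toAdd + x.2.2.2.1.toAdd : ZMod 2),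
    Multiplicative.ofAdd (x.1.toAdd + x.2.2.1.toAdd : ZMod 2),
    Multiplicative.ofAdd (6 * x.2.2.2.2.toAdd : ZMod 7))
  map_mul := by decide +kernel
  period := by decide +kernel

abbrev G9 : Type := Semi act9

theorem solvable_G9 : Group.IsSolvable G9 :=
  Semi.isSolvable act9

theorem cnt_G9 (n : ℕ) : cnt G9 n = val [(1, 1), (2, 43), (3, 32), (4, 84), (6, 224), (7, 6), (14, 90), (21, 192)] n :=
  cnt_eq_val _ (by decide +kernel) (by decide +kernel) n

end CfsgLib.OrderType.Data
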