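import Cfsg.Agent.Lib.OrderType.Basic

set_option synthInstance.maxSize 4096

namespace CfsgLib.OrderType.Data

open CfsgLib.OrderType

abbrev A2 : Type :=
  Multiplicative (ZMod 3)

def act2 : CyclicAct A2 2 where
  σ x := Multiplicative.ofAdd (2 * x.toAdd : ZMod 3)
  map_mul := by decide +kernel
  period := by decide +kernel

abbrev G2 : Type := Semi act2

theorem solvable_G2 : Group.IsSolvable G2 :=
  Semi.isSolvable act2

theorem cnt_G2 (n : ℕ) : cnt G2 n = val [(1, 1), (2, 3), (3, 2)] n :=
  cnt_eq_val _ (by decide +kernel) (by decide +kernel) n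

abbrev A4 : Type :=
  Multiplicative (ZMod 3) ×
  Multiplicative (ZMod 3) ×
  Multiplicative (ZMod 3)

def act4 : CyclicAct A4 4 where
  σ x := (Multiplicative.ofAdd (x.2.2.toAdd : ZMod 3),
    Multiplicative.ofAdd (x.2.1.toAdd + x.2.2.toAdd : ZMod 3),
    Multiplicative.ofAdd (x.1.toAdd + 2 * x.2.1.toAdd + x.2.2.toAdd : ZMod 3))
  map_mul := by decide +kernel
  period := by decide +kernel

abbrev G4 : Type := Semi act4

theorem solvable_G4 : Group.IsSolvable G4 :=
  Semi.isSolvable act4

theorem cnt_G4 (n : ℕ) : cnt G4 n = val [(1, 1), (2, 9), (3, 26), (4, 54), (6, 18)] n :=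
  cnt_eq_val _ (by decide +kernel) (by decide +kernel) n

abbrev A5 : Type :=
  Multiplicative (ZMod 3)

def act5 : CyclicAct A5 4 where
  σ x := Multiplicative.ofAdd (2 * x.toAdd : ZMod 3)
  map_mul := by decide +kernel
  period := by decide +kernel

abbrev G5 : Type := Semi act5

theorem solvable_G5 : Group.IsSolvable G5 :=
  Semi.isSolvable act5

theorem cnt_G5 (n : ℕ) : cnt G5 n = val [(1, 1), (2, 1), (3, 2), (4, 6), (6, 2)] n :=
  cnt_eq_val _ (by decide +kernel) (by decide +kernel) n

abbrev A13 : Type :=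
  Multiplicative (ZMod 3) ×
  Multiplicative (ZMod 42)

def act13 : CyclicAct A13 2 where
  σ x := (Multiplicative.ofAdd (2 * x.1.toAdd : ZMod 3),
    Multiplicative.ofAdd (41 * x.2.toAdd : ZMod 42))
  map_mul := by decide +kernel
  period := by decide +kernel

abbrev G13 : Type := Semi act13

theorem solvable_G13 : Group.IsSolvable G13 :=
  Semi.isSolvable act13

theorem cnt_G13 (n : ℕ) : cnt G13 n = val [(1, 1), (2, 127), (3, 8), (6, 8), (7, 6), (14, 6), (21, 48), (42, 48)] n :=
  cnt_eq_val _ (by decide +kernel) (by decide +kernel) n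

abbrev A14 : Type :=
  Multiplicative (ZMod 42)

def act14 : CyclicAct A14 12 where
  σ x := Multiplicative.ofAdd (41 * x.toAdd : ZMod 42)
  map_mul := by decide +kernel
  period := by decide +kernel

abbrev G14 : Type := Semi act14

theorem solvable_G14 : Group.IsSolvable G14 :=
  Semi.isSolvable act14

theorem cnt_G14 (n : ℕ) : cnt G14 n = val [(1, 1), (2, 3), (3, 8), (4, 84), (6, 24), (7, 6), (12, 168), (14, 18), (21, 48), (42, 144)] n :=
  cnt_eq_val _ (by decide +kernel) (by decide +kernel) n

abbrev A15 : Type :=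
  Multiplicative (ZMod 21)

def act15 : CyclicAct A15 2 where
  σ x := Multiplicative.ofAdd (20 * x.toAdd : ZMod 21)
  map_mul := by decide +kernel
  period := by decide +kernel

abbrev G15 : Type := Semi act15

theorem solvable_G15 : Group.IsSolvable G15 :=
  Semi.isSolvable act15

theorem cnt_G15 (n : ℕ) : cnt G15 n = val [(1, 1), (2, 21), (3, 2), (7, 6), (21, 12)] n :=
  cnt_eq_val _ (by decide +kernel) (by decide +kernel) n

abbrev A16 : Type :=
  Multiplicative (ZMod 4) ×
  Multiplicative (ZMod 4)

def act16 : CyclicAct A16 6 where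
  σ x := (Multiplicative.ofAdd (x.2.toAdd : ZMod 4),
    Multiplicative.ofAdd (x.1.toAdd + x.2.toAdd : ZMod 4))
  map_mul := by decide +kernel
  period := by decide +kernel

abbrev G16 : Type := Semi act16

theorem solvable_G16 : Group.IsSolvable G16 :=
  Semi.isSolvable act16

theorem cnt_G16 (n : ℕ) : cnt G16 n = val [(1, 1), (2, 7), (3, 32), (4, 24), (6, 32)] n :=
  cnt_eq_val _ (by decide +kernel) (by decide +kernel) n

abbrev A18 : Type :=
  Multiplicative (ZMod 7)

def act18 : CyclicAct A18 1 where
  σ x := Multiplicative.ofAdd (x.toAdd : ZMod 7)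
  map_mul := by decide +kernel
  period := by decide +kernel

abbrev G18 : Type := Semi act18

theorem solvable_G18 : Group.IsSolvable G18 :=
  Semi.isSolvable act18

theorem cnt_G18 (n : ℕ) : cnt G18 n = val [(1, 1), (7, 6)] n :=
  cnt_eq_val _ (by decide +kernel) (by decide +kernel) n

end CfsgLib.OrderType.Data
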