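import Cfsg.Agent.Lib.OrderType.Basic

set_option synthInstance.maxSize 4096

namespace CfsgLib.OrderType.Data

open CfsgLib.OrderType

abbrev A1 : Type :=
  Multiplicative (ZMod 7)

def act1 : CyclicAct A1 2 where
  σ x := Multiplicative.ofAdd (6 * x.toAdd : ZMod 7)
  map_mul := by decide +kernel
  period := by decide +kernel

abbrev G1 : Type := Semi act1

theorem solvable_G1 : Group.IsSolvable G1 :=
  Semi.isSolvable act1

theorem cnt_G1 (n : ℕ) : cnt G1 n = val [(1, 1), (2, 7), (7, 6)] n :=
  cnt_eq_val _ (by decide +kernel) (by decide +kernel) n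

abbrev G3 : Type := QuaternionGroup 2

theorem solvable_G3 : Group.IsSolvable G3 :=
  have := (IsPGroup.of_card (p := 2) (n := 3) (G := G3) (by simp [Nat.card_eq_fintype_card, QuaternionGroup.card])).isNilpotent
  inferInstance

theorem cnt_G3 (n : ℕ) : cnt G3 n = val [(1, 1), (2, 1), (4, 6)] n :=
  cnt_eq_val _ (by decide +kernel) (by decide +kernel) n

abbrev A6 : Type :=
  Multiplicative (ZMod 2)

def act6 : CyclicAct A6 1 where
  σ x := Multiplicative.ofAdd (x.toAdd : ZMod 2)
  map_mul := by decide +kernel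
  period := by decide +kernel

abbrev G6 : Type := Semi act6

theorem solvable_G6 : Group.IsSolvable G6 :=
  Semi.isSolvable act6

theorem cnt_G6 (n : ℕ) : cnt G6 n = val [(1, 1), (2, 1)] n :=
  cnt_eq_val _ (by decide +kernel) (by decide +kernel) n

abbrev A8 : Type :=
  Multiplicative (ZMod 2) ×
  Multiplicative (ZMod 2) ×
  Multiplicative (ZMod 2) ×
  Multiplicative (ZMod 2) ×
  Multiplicative (ZMod 7)

def act8 : CyclicAct A8 3 where
  σ x := (Multiplicative.ofAdd (x.2.2.2.1.toAdd : ZMod 2),
    Multiplicative.ofAdd (x.2.2.1.toAdd : ZMod 2),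
    Multiplicative.ofAdd (x.2.1.toAdd + x.2.2.1.toAdd : ZMod 2),
    Multiplicative.ofAdd (x.1.toAdd + x.2.2.2.1.toAdd : ZMod 2),
    Multiplicative.ofAdd (2 * x.2.2.2.2.toAdd : ZMod 7))
  map_mul := by decide +kernel
  period := by decide +kernel

abbrev G8 : Type := Semi act8

theorem solvable_G8 : Group.IsSolvable G8 :=
  Semi.isSolvable act8

theorem cnt_G8 (n : ℕ) : cnt G8 n = val [(1, 1), (2, 15), (3, 224), (7, 6), (14, 90)] n :=
  cnt_eq_val _ (by decide +kernel) (by decide +kernel) n

abbrev A10 : Type :=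
  Multiplicative (ZMod 14)

def act10 : CyclicAct A10 4 where
  σ x := Multiplicative.ofAdd (13 * x.toAdd : ZMod 14)
  map_mul := by decide +kernel
  period := by decide +kernel

abbrev G10 : Type := Semi act10

theorem solvable_G10 : Group.IsSolvable G10 :=
  Semi.isSolvable act10

theorem cnt_G10 (n : ℕ) : cnt G10 n = val [(1, 1), (2, 3), (4, 28), (7, 6), (14, 18)] n :=
  cnt_eq_val _ (by decide +kernel) (by decide +kernel) n

abbrev A11 : Type :=
  Multiplicative (ZMod 7)

def act11 : CyclicAct A11 12 where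
  σ x := Multiplicative.ofAdd (3 * x.toAdd : ZMod 7)
  map_mul := by decide +kernel
  period := by decide +kernel

abbrev G11 : Type := Semi act11

theorem solvable_G11 : Group.IsSolvable G11 :=
  Semi.isSolvable act11

theorem cnt_G11 (n : ℕ) : cnt G11 n = val [(1, 1), (2, 1), (3, 14), (4, 14), (6, 14), (7, 6), (12, 28), (14, 6)] n :=
  cnt_eq_val _ (by decide +kernel) (by decide +kernel) n

abbrev A12 : Type :=
  Multiplicative (ZMod 3) ×
  Multiplicative (ZMod 21)

def act12 : CyclicAct A12 4 where
  σ x := (Multiplicative.ofAdd (2 * x.1.toAdd : ZMod 3),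
    Multiplicative.ofAdd (20 * x.2.toAdd : ZMod 21))
  map_mul := by decide +kernel
  period := by decide +kernel

abbrev G12 : Type := Semi act12

theorem solvable_G12 : Group.IsSolvable G12 :=
  Semi.isSolvable act12

theorem cnt_G12 (n : ℕ) : cnt G12 n = val [(1, 1), (2, 1), (3, 8), (4, 126), (6, 8), (7, 6), (14, 6), (21, 48), (42, 48)] n :=
  cnt_eq_val _ (by decide +kernel) (by decide +kernel) n

/-- The field automorphism and a Singer cycle on the additive group of the field of order 8. -/
abbrev AF8 : Type :=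
  Multiplicative (ZMod 2) × Multiplicative (ZMod 2) × Multiplicative (ZMod 2)

def actF8 : CyclicAct AF8 7 where
  σ x := (Multiplicative.ofAdd x.2.2.toAdd, Multiplicative.ofAdd (x.1.toAdd + x.2.2.toAdd),
    Multiplicative.ofAdd x.2.1.toAdd)
  map_mul := by decide +kernel
  period := by decide +kernel

def frob8 : CyclicAct (Semi actF8) 3 where
  σ x := ⟨(Multiplicative.ofAdd x.a.1.toAdd, Multiplicative.ofAdd x.a.2.2.toAdd,
    Multiplicative.ofAdd (x.a.2.1.toAdd + x.a.2.2.toAdd)), 2 * x.j⟩
  map_mul := by decide +kernel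
  period := by decide +kernel


abbrev G17 : Type := Semi frob8

theorem solvable_G17 : Group.IsSolvable G17 :=
  have := Semi.isSolvable actF8
  Semi.isSolvable frob8

theorem cnt_G17 (n : ℕ) : cnt G17 n = val [(1, 1), (2, 7), (3, 56), (6, 56), (7, 48)] n :=
  cnt_eq_val _ (by decide +kernel) (by decide +kernel) n

abbrev A19 : Type :=
  Multiplicative (ZMod 7) ×
  Multiplicative (ZMod 7)

def act19 : CyclicAct A19 6 where
  σ x := (Multiplicative.ofAdd (x.2.toAdd : ZMod 7),
    Multiplicative.ofAdd (3 * x.1.toAdd + 2 * x.2.toAdd : ZMod 7))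
  map_mul := by decide +kernel
  period := by decide +kernel

abbrev G19 : Type := Semi act19

theorem solvable_G19 : Group.IsSolvable G19 :=
  Semi.isSolvable act19

theorem cnt_G19 (n : ℕ) : cnt G19 n = val [(1, 1), (2, 49), (3, 14), (6, 98), (7, 48), (21, 84)] n :=
  cnt_eq_val _ (by decide +kernel) (by decide +kernel) n

abbrev A20 : Type :=
  Multiplicative (ZMod 2) ×
  Multiplicative (ZMod 7) ×
  Multiplicative (ZMod 7)

def act20 : CyclicAct A20 2 where
  σ x := (Multiplicative.ofAdd (x.1.toAdd : ZMod 2),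
    Multiplicative.ofAdd (6 * x.2.1.toAdd : ZMod 7),
    Multiplicative.ofAdd (6 * x.2.2.toAdd : ZMod 7))
  map_mul := by decide +kernel
  period := by decide +kernel

abbrev G20 : Type := Semi act20

theorem solvable_G20 : Group.IsSolvable G20 :=
  Semi.isSolvable act20

theorem cnt_G20 (n : ℕ) : cnt G20 n = val [(1, 1), (2, 99), (7, 48), (14, 48)] n :=
  cnt_eq_val _ (by decide +kernel) (by decide +kernel) n

abbrev A21 : Type :=
  Multiplicative (ZMod 7)

def act21 : CyclicAct A21 3 where
  σ x := Multiplicative.ofAdd (2 * x.toAdd : ZMod 7)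
  map_mul := by decide +kernel
  period := by decide +kernel

abbrev G21 : Type := Semi act21

theorem solvable_G21 : Group.IsSolvable G21 :=
  Semi.isSolvable act21

theorem cnt_G21 (n : ℕ) : cnt G21 n = val [(1, 1), (3, 14), (7, 6)] n :=
  cnt_eq_val _ (by decide +kernel) (by decide +kernel) n

end CfsgLib.OrderType.Data
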