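import Cfsg.Agent.Lib.OrderType.Data1
import Cfsg.Agent.Lib.OrderType.Data2
import Cfsg.Agent.Lib.OrderType.Data3
import Cfsg.Agent.Lib.OrderType.Data4

set_option synthInstance.maxSize 4096

namespace CfsgLib.OrderType.Data

open CfsgLib.OrderType
open scoped commutatorElement

abbrev G0 : Type := Matrix.SpecialLinearGroup (Fin 3) (ZMod 2)

theorem cnt_G0 (n : ℕ) : cnt G0 n = val [(1, 1), (2, 21), (3, 56), (4, 42), (7, 48)] n :=
  cnt_eq_val _ (by decide +kernel) (by decide +kernel) n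

/-- An elementary transvection. -/
def tr (i j : Fin 3) : G0 :=
  if h : i = j then 1 else Matrix.SpecialLinearGroup.transvection h 1

abbrev SolvableSide : Type :=
  (Fin 21 → G5) ×
  (Fin 3 → G7) ×
  (Fin 12 → G10) ×
  (Fin 6 → G11) ×
  (Fin 6 → G13) ×
  (Fin 6 → G15) ×
  (Fin 3 → G16) ×
  (Fin 3 → G17) ×
  (Fin 1 → G18) ×
  (Fin 2 → G20)

abbrev OtherSide : Type :=
  (Fin 3 → G0) ×
  (Fin 12 → G1) ×
  (Fin 6 → G2) ×
  (Fin 12 → G3) ×
  (Fin 3 → G4) ×
  (Fin 23 → G6) ×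
  (Fin 3 → G8) ×
  (Fin 3 → G9) ×
  (Fin 6 → G12) ×
  (Fin 6 → G14) ×
  (Fin 2 → G19) ×
  (Fin 4 → G21)

theorem not_isSolvable_G0 : ¬ Group.IsSolvable G0 := by
  refine not_isSolvable_of_commutators {g | ∃ i j, i ≠ j ∧ g = tr i j} (a := tr 0 1)
    ⟨0, 1, by decide, rfl⟩ (by decide +kernel) ?_
  rintro x ⟨i, j, hij, rfl⟩
  have h : ∀ i j : Fin 3, i ≠ j →
      ∃ k, i ≠ k ∧ k ≠ j ∧ tr i j = ⁅tr i k, tr k j⁆ := by decide +kernel
  obtain ⟨k, hik, hkj, h⟩ := h i j hij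
  exact ⟨_, ⟨i, k, hik, rfl⟩, _, ⟨k, j, hkj, rfl⟩, h⟩

theorem isSolvable_solvableSide : Group.IsSolvable SolvableSide := by
  have := solvable_G10
  have := solvable_G11
  have := solvable_G13
  have := solvable_G15
  have := solvable_G16
  have := solvable_G17
  have := solvable_G18
  have := solvable_G20
  have := solvable_G5
  have := solvable_G7
  have := isSolvable_pi (ι := Fin 21) G5
  have := isSolvable_pi (ι := Fin 3) G7
  have := isSolvable_pi (ι := Fin 12) G10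
  have := isSolvable_pi (ι := Fin 6) G11
  have := isSolvable_pi (ι := Fin 6) G13
  have := isSolvable_pi (ι := Fin 6) G15
  have := isSolvable_pi (ι := Fin 3) G16
  have := isSolvable_pi (ι := Fin 3) G17
  have := isSolvable_pi (ι := Fin 1) G18
  have := isSolvable_pi (ι := Fin 2) G20
  infer_instance

theorem not_isSolvable_otherSide : ¬ Group.IsSolvable OtherSide := by
  intro h
  apply not_isSolvable_G0
  let f : OtherSide →* G0 :=
    (Pi.evalMonoidHom (fun _ : Fin 3 => G0) 0).comp (MonoidHom.fst _ _)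
  have hf : Function.Surjective f := fun g => ⟨(fun _ => g, 1), rfl⟩
  exact Group.isSolvable_of_surjective hf

theorem cnt_sides (n : ℕ) : cnt SolvableSide n = cnt OtherSide n := by
  have h1 : cnt SolvableSide n = valProd [([(1, 1), (2, 1), (3, 2), (4, 6), (6, 2)], 21),
    ([(1, 1), (2, 19), (3, 224), (4, 12), (6, 224), (7, 6), (14, 114), (28, 72)], 3),
    ([(1, 1), (2, 3), (4, 28), (7, 6), (14, 18)], 12),
    ([(1, 1), (2, 1), (3, 14), (4, 14), (6, 14), (7, 6), (12, 28), (14, 6)], 6),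
    ([(1, 1), (2, 127), (3, 8), (6, 8), (7, 6), (14, 6), (21, 48), (42, 48)], 6),
    ([(1, 1), (2, 21), (3, 2), (7, 6), (21, 12)], 6),
    ([(1, 1), (2, 7), (3, 32), (4, 24), (6, 32)], 3),
    ([(1, 1), (2, 7), (3, 56), (6, 56), (7, 48)], 3),
    ([(1, 1), (7, 6)], 1),
    ([(1, 1), (2, 99), (7, 48), (14, 48)], 2)] n := by
    simp only [SolvableSide, cnt_prod, cnt_pow, valProd, List.map, List.prod_cons, List.prod_nil,
      mul_one, cnt_G5, cnt_G7, cnt_G10, cnt_G11, cnt_G13, cnt_G15, cnt_G16, cnt_G17, cnt_G18, cnt_G20]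
  have h2 : cnt OtherSide n = valProd [([(1, 1), (2, 21), (3, 56), (4, 42), (7, 48)], 3),
    ([(1, 1), (2, 7), (7, 6)], 12),
    ([(1, 1), (2, 3), (3, 2)], 6),
    ([(1, 1), (2, 1), (4, 6)], 12),
    ([(1, 1), (2, 9), (3, 26), (4, 54), (6, 18)], 3),
    ([(1, 1), (2, 1)], 23),
    ([(1, 1), (2, 15), (3, 224), (7, 6), (14, 90)], 3),
    ([(1, 1), (2, 43), (3, 32), (4, 84), (6, 224), (7, 6), (14, 90), (21, 192)], 3),
    ([(1, 1), (2, 1), (3, 8), (4, 126), (6, 8), (7, 6), (14, 6), (21, 48), (42, 48)], 6),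
    ([(1, 1), (2, 3), (3, 8), (4, 84), (6, 24), (7, 6), (12, 168), (14, 18), (21, 48), (42, 144)], 6),
    ([(1, 1), (2, 49), (3, 14), (6, 98), (7, 48), (21, 84)], 2),
    ([(1, 1), (3, 14), (7, 6)], 4)] n := by
    simp only [OtherSide, cnt_prod, cnt_pow, valProd, List.map, List.prod_cons, List.prod_nil,
      mul_one, cnt_G0, cnt_G1, cnt_G2, cnt_G3, cnt_G4, cnt_G6, cnt_G8, cnt_G9, cnt_G12, cnt_G14, cnt_G19, cnt_G21]
  rw [h1, h2, valProd_gcd _ (by decide +kernel) n, valProd_gcd _ (by decide +kernel) n]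
  have h : ∀ d ∈ (84 : ℕ).divisors, valProd [([(1, 1), (2, 1), (3, 2), (4, 6), (6, 2)], 21),
    ([(1, 1), (2, 19), (3, 224), (4, 12), (6, 224), (7, 6), (14, 114), (28, 72)], 3),
    ([(1, 1), (2, 3), (4, 28), (7, 6), (14, 18)], 12),
    ([(1, 1), (2, 1), (3, 14), (4, 14), (6, 14), (7, 6), (12, 28), (14, 6)], 6),
    ([(1, 1), (2, 127), (3, 8), (6, 8), (7, 6), (14, 6), (21, 48), (42, 48)], 6),
    ([(1, 1), (2, 21), (3, 2), (7, 6), (21, 12)], 6),
    ([(1, 1), (2, 7), (3, 32), (4, 24), (6, 32)], 3),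
    ([(1, 1), (2, 7), (3, 56), (6, 56), (7, 48)], 3),
    ([(1, 1), (7, 6)], 1),
    ([(1, 1), (2, 99), (7, 48), (14, 48)], 2)] d = valProd [([(1, 1), (2, 21), (3, 56), (4, 42), (7, 48)], 3),
    ([(1, 1), (2, 7), (7, 6)], 12),
    ([(1, 1), (2, 3), (3, 2)], 6),
    ([(1, 1), (2, 1), (4, 6)], 12),
    ([(1, 1), (2, 9), (3, 26), (4, 54), (6, 18)], 3),
    ([(1, 1), (2, 1)], 23),
    ([(1, 1), (2, 15), (3, 224), (7, 6), (14, 90)], 3),
    ([(1, 1), (2, 43), (3, 32), (4, 84), (6, 224), (7, 6), (14, 90), (21, 192)], 3),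
    ([(1, 1), (2, 1), (3, 8), (4, 126), (6, 8), (7, 6), (14, 6), (21, 48), (42, 48)], 6),
    ([(1, 1), (2, 3), (3, 8), (4, 84), (6, 24), (7, 6), (12, 168), (14, 18), (21, 48), (42, 144)], 6),
    ([(1, 1), (2, 49), (3, 14), (6, 98), (7, 48), (21, 84)], 2),
    ([(1, 1), (3, 14), (7, 6)], 4)] d := by
    decide +kernel
  exact h _ (Nat.mem_divisors.mpr ⟨Nat.gcd_dvd_right n 84, by decide⟩)

end CfsgLib.OrderType.Data
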